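import Groth.Agent.GrGor.Core
import Groth.Agent.CMFlat.FiberRing
import Groth.Agent.CMFlat.Quotient
import Groth.Agent.CMFlat.Localization
import Groth.Agent.FlatDepth.Fibre
import Mathlib.RingTheory.RegularLocalRing.Polynomial
import Mathlib.RingTheory.TensorProduct.MonoidAlgebra
import Mathlib.Algebra.Polynomial.Laurent

/-!
# Laurent polynomial rings over a Noetherian ring
-/

universe u

open scoped LaurentPolynomial TensorProduct
open IsLocalRing

set_option linter.style.haveILetI false

noncomputable section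

namespace Groth.Agent.FiltRees

theorem gorenstein_congr {R : Type u} [CommRing R] (P Q : Ideal R) [P.IsPrime] [Q.IsPrime] (h : P = Q) :
    LocCoh.IsGorensteinLocalRing (Localization.AtPrime P) ↔ LocCoh.IsGorensteinLocalRing (Localization.AtPrime Q) := by
  subst h; exact Iff.rfl

theorem cm_congr {R : Type u} [CommRing R] (P Q : Ideal R) [P.IsPrime] [Q.IsPrime] (h : P = Q) :
    LocCoh.IsCohenMacaulayLocalRing (Localization.AtPrime P) ↔
      LocCoh.IsCohenMacaulayLocalRing (Localization.AtPrime Q) := by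
  subst h; exact Iff.rfl

theorem condS_congr {R : Type u} [CommRing R] (k : ℕ) (P Q : Ideal R) [P.IsPrime] [Q.IsPrime] (h : P = Q) :
    FlatDepth.CondS k (Localization.AtPrime P) ↔ FlatDepth.CondS k (Localization.AtPrime Q) := by
  subst h; exact Iff.rfl

variable (A : Type u) [CommRing A]

theorem free_laurent : Module.Free A A[T;T⁻¹] :=
  Module.Free.of_equiv (AddMonoidAlgebra.coeffLinearEquiv A (M := ℤ) (S := A)).symm

theorem noetherian_laurent [IsNoetherianRing A] : IsNoetherianRing A[T;T⁻¹] :=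
  IsLocalization.isNoetherianRing (Submonoid.powers (Polynomial.X : Polynomial A)) _ inferInstance

theorem cm_laurent_field (K : Type u) [Field K] : LocCoh.IsCohenMacaulayRing K[T;T⁻¹] := by
  haveI := noetherian_laurent K
  refine { isCohenMacaulayLocalRing_localization := fun Q _ => ?_ }
  let M := Submonoid.powers (Polynomial.X : Polynomial K)
  haveI := IsLocalization.isLocalization_isLocalization_atPrime_isLocalization M (Localization.AtPrime Q) Q
  let e : Localization.AtPrime (Q.comap (algebraMap (Polynomial K) K[T;T⁻¹])) ≃+* Localization.AtPrime Q :=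
    (IsLocalization.algEquiv (Q.comap (algebraMap (Polynomial K) K[T;T⁻¹])).primeCompl _ _).toRingEquiv
  haveI := IsRegularLocalRing.of_ringEquiv e
  exact CMFlat.isCohenMacaulayLocalRing_of_isRegularLocalRing _

/-- A prime of `A[T;T⁻¹]` lying over `p`, extended from `p`. -/
theorem exists_over (p : Ideal A) [p.IsPrime] :
    ∃ (P : Ideal A[T;T⁻¹]) (_ : P.IsPrime), P.comap (algebraMap A A[T;T⁻¹]) = p ∧
      ∀ z, z ∈ P ↔ ∀ n, z.coeff n ∈ p := by
  let π : A[T;T⁻¹] →+* (A ⧸ p)[T;T⁻¹] := AddMonoidAlgebra.mapRingHom ℤ (Ideal.Quotient.mk p)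
  have hmem : ∀ z, z ∈ RingHom.ker π ↔ ∀ n, z.coeff n ∈ p := fun z => by
    rw [RingHom.mem_ker]
    constructor
    · intro h n
      rw [← Ideal.Quotient.eq_zero_iff_mem]
      have := congrArg (fun w : (A ⧸ p)[T;T⁻¹] => w.coeff n) h
      simpa [π] using this
    · intro h
      ext n
      simpa [π, Ideal.Quotient.eq_zero_iff_mem] using h n
  refine ⟨RingHom.ker π, RingHom.ker_isPrime π, ?_, hmem⟩
  ext r
  show π (algebraMap A A[T;T⁻¹] r) = 0 ↔ _
  rw [LaurentPolynomial.algebraMap_apply, Algebra.algebraMap_self, RingHom.id_apply]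
  show π (AddMonoidAlgebra.single 0 r) = 0 ↔ _
  rw [AddMonoidAlgebra.mapRingHom_single, AddMonoidAlgebra.single_eq_zero, Ideal.Quotient.eq_zero_iff_mem]

theorem fibre_cm (p : Ideal A) [p.IsPrime] : LocCoh.IsCohenMacaulayRing (p.Fiber A[T;T⁻¹]) := by
  let e : p.Fiber A[T;T⁻¹] ≃+* p.ResidueField[T;T⁻¹] :=
    (AddMonoidAlgebra.scalarTensorEquiv A p.ResidueField).toRingEquiv
  haveI := cm_laurent_field p.ResidueField
  haveI : IsNoetherianRing (p.Fiber A[T;T⁻¹]) := isNoetherianRing_of_ringEquiv _ e.symm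
  refine { isCohenMacaulayLocalRing_localization := fun Q _ => ?_ }
  let Q' := Q.comap e.symm.toRingHom
  haveI := LocCoh.IsCohenMacaulayRing.isCohenMacaulayLocalRing_localization (R := p.ResidueField[T;T⁻¹]) Q'
  exact @CMChart.isCohenMacaulayLocalRing_of_ringEquiv _ _ _ _ (IsLocalization.ringEquivOfRingEquiv
    (M := Q'.primeCompl) (T := Q.primeCompl) (Localization.AtPrime Q') (Localization.AtPrime Q) e.symm (by
      ext x
      simp only [Submonoid.mem_map, Ideal.mem_primeCompl_iff]
      refine ⟨?_, fun hx => ⟨e x, ?_, ?_⟩⟩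
      · rintro ⟨y, hy, rfl⟩; exact hy
      · intro h; exact hx (by simpa [Q'] using h)
      · simp)) inferInstance

variable [IsNoetherianRing A]

theorem cm_laurent_iff (P : Ideal A[T;T⁻¹]) [P.IsPrime] (p : Ideal A) [p.IsPrime]
    (hp : P.comap (algebraMap A A[T;T⁻¹]) = p) :
    LocCoh.IsCohenMacaulayLocalRing (Localization.AtPrime P) ↔
      LocCoh.IsCohenMacaulayLocalRing (Localization.AtPrime p) := by
  haveI := free_laurent A
  haveI := noetherian_laurent A
  obtain ⟨Q, hQp, hQ⟩ := CMFlat.exists_prime_fiber P p hp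
  haveI := hQp
  rw [CMFlat.isCohenMacaulay_atPrime_iff P p Q hQ]
  haveI := fibre_cm A p
  exact and_iff_left (LocCoh.IsCohenMacaulayRing.isCohenMacaulayLocalRing_localization Q)

theorem hasSk_laurent_iff (k : ℕ) : LocCoh.HasSk k A[T;T⁻¹] A[T;T⁻¹] ↔ LocCoh.HasSk k A A := by
  haveI := free_laurent A
  haveI := noetherian_laurent A
  haveI : Nonempty ℤ := inferInstance
  refine ⟨fun h => ?_, fun h => FlatDepth.hasSk_of_flat_fibres k h fun p _ => ?_⟩
  · rcases subsingleton_or_nontrivial A with hA | hA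
    · exact fun p hp => absurd (Subsingleton.elim p ⊤) hp.ne_top
    · exact FlatDepth.hasSk_descent (B := A[T;T⁻¹]) k h
  · haveI := fibre_cm A p
    rw [FlatDepth.hasSk_iff_condS]
    intro q _
    have := LocCoh.IsCohenMacaulayRing.isCohenMacaulayLocalRing_localization (R := p.Fiber A[T;T⁻¹]) q
    rw [FlatDepth.CondS, ← this.supportDim_eq_depth, Module.supportDim_self_eq_ringKrullDim]
    exact min_le_right _ _

theorem gorenstein_laurent_iff (P : Ideal A[T;T⁻¹]) [P.IsPrime] (p : Ideal A) [p.IsPrime]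
    (hp : P.comap (algebraMap A A[T;T⁻¹]) = p) :
    LocCoh.IsGorensteinLocalRing (Localization.AtPrime P) ↔
      LocCoh.IsGorensteinLocalRing (Localization.AtPrime p) := by
  haveI := free_laurent A
  haveI := noetherian_laurent A
  refine ⟨fun h => ?_, fun h => GrGor.gorenstein_laurent P p (by
    rw [← hp]; congr 1) h⟩
  have h' := ((Goren.atPrime_flat_iff (A := A) P).1 h).1
  exact (gorenstein_congr _ _ hp).1 h'

end Groth.Agent.FiltRees
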