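import Groth.Agent.S0320
import Groth.Agent.CMFlat.Localization
import Groth.Agent.FlatDepth.CMTensor
import Groth.Agent.FlatDepth.Serre
import Groth.Agent.Goren.Equiv
import Groth.Agent.CMChart.Scheme

/-!
# Dividing by a regular element at a prime
-/

universe u

open IsLocalRing RingTheory.Sequence Pointwise

set_option linter.style.haveILetI false

namespace Groth.Agent.FiltRees

open Groth.Agent.FlatDepth (CondS)

section Loc

variable {R : Type u} [CommRing R] [IsLocalRing R] [IsNoetherianRing R] {x : R}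

/-- Dimension and depth after dividing by a regular element of the maximal ideal. -/
theorem invariants [IsLocalRing (R ⧸ Ideal.span {x})] (hx : x ∈ maximalIdeal R) (hreg : IsSMulRegular R x) :
    ∃ d e : ℕ, e ≤ d ∧ ringKrullDim (R ⧸ Ideal.span {x}) = d ∧
      LocCoh.depth (R ⧸ Ideal.span {x}) (R ⧸ Ideal.span {x}) = e ∧
      ringKrullDim R = (d + 1 : ℕ) ∧ LocCoh.depth R R = (e + 1 : ℕ) := by
  obtain ⟨d, hd⟩ := SerreReg.exists_dim_nat (R ⧸ Ideal.span {x})
  have hdim := ringKrullDim_quotient_span_singleton_succ_eq_ringKrullDim_of_mem_jacobson hreg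
    (by rwa [IsLocalRing.ringJacobson_eq_maximalIdeal])
  rw [hd] at hdim
  have hle := CMFlat.depth_le_of_dim hd
  obtain ⟨e, he⟩ := ENat.ne_top_iff_exists.1 (ne_top_of_le_ne_top (ENat.natCast_ne_top d) hle)
  refine ⟨d, e, by rw [← he] at hle; exact_mod_cast hle, hd, he.symm, by rw [← hdim]; push_cast; ring, ?_⟩
  have h : (maximalIdeal R) • (⊤ : Submodule R R) ≠ ⊤ := by
    rw [smul_eq_mul, Ideal.mul_top]; exact (maximalIdeal.isMaximal R).ne_top
  have h0 := S0320.result R (maximalIdeal R) R h x hx hreg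
  let eq : QuotSMulTop x R ≃ₗ[R] R ⧸ Ideal.span {x} := Submodule.quotEquivOfEq _ _ (by
    rw [← Submodule.ideal_span_singleton_smul, smul_eq_mul, Ideal.mul_top])
  rw [LocH.idealDepth_congr eq] at h0
  have h1 := FlatDepth.depth_quotient_ring (Ideal.span {x}) (R ⧸ Ideal.span {x})
  rw [← he] at h1
  show LocCoh.idealDepth (maximalIdeal R) R = _
  rw [← h0, ← show (e : ℕ∞) = LocCoh.idealDepth (maximalIdeal R) (R ⧸ Ideal.span {x}) from h1]
  push_cast
  rfl

theorem cm_iff [IsLocalRing (R ⧸ Ideal.span {x})] (hx : x ∈ maximalIdeal R) (hreg : IsSMulRegular R x) :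
    LocCoh.IsCohenMacaulayLocalRing R ↔ LocCoh.IsCohenMacaulayLocalRing (R ⧸ Ideal.span {x}) := by
  obtain ⟨d, e, -, h1, h2, h3, h4⟩ := invariants hx hreg
  constructor <;> intro h
  · refine { supportDim_eq_depth := ?_ }
    have h0 := h.supportDim_eq_depth
    rw [Module.supportDim_self_eq_ringKrullDim, h3, h4] at h0
    rw [Module.supportDim_self_eq_ringKrullDim, h1, h2]
    have : d + 1 = e + 1 := by exact_mod_cast h0
    rw [Nat.add_right_cancel this]; rfl
  · refine { supportDim_eq_depth := ?_ }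
    have h0 := h.supportDim_eq_depth
    rw [Module.supportDim_self_eq_ringKrullDim, h1, h2] at h0
    rw [Module.supportDim_self_eq_ringKrullDim, h3, h4]
    have : d = e := by exact_mod_cast h0
    rw [this]; rfl

theorem condS_iff [IsLocalRing (R ⧸ Ideal.span {x})] (hx : x ∈ maximalIdeal R) (hreg : IsSMulRegular R x) (k : ℕ) :
    CondS (k + 1) R ↔ CondS k (R ⧸ Ideal.span {x}) := by
  obtain ⟨d, e, -, h1, h2, h3, h4⟩ := invariants hx hreg
  rw [FlatDepth.condS_iff h1, FlatDepth.condS_iff h3, h2, h4, Nat.cast_le, Nat.cast_le]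
  omega

end Loc

/-- Localizing the quotient by an element at a prime containing it. -/
theorem exists_equiv {A : Type u} [CommRing A] (f : A) (P : Ideal (A ⧸ Ideal.span {f})) [P.IsPrime] :
    Nonempty ((Localization.AtPrime (P.comap (Ideal.Quotient.mk (Ideal.span {f}))) ⧸
      Ideal.span {algebraMap A (Localization.AtPrime (P.comap (Ideal.Quotient.mk (Ideal.span {f})))) f}) ≃+*
        Localization.AtPrime P) := by
  let π : A →+* A ⧸ Ideal.span {f} := Ideal.Quotient.mk _
  let p := P.comap π
  let φ := Localization.localRingHom p P π rfl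
  have hφs : Function.Surjective φ := fun y => by
    obtain ⟨⟨a, s⟩, rfl⟩ := IsLocalization.mk'_surjective P.primeCompl y
    obtain ⟨a, rfl⟩ := Ideal.Quotient.mk_surjective a
    obtain ⟨t, ht⟩ := Ideal.Quotient.mk_surjective (s : A ⧸ Ideal.span {f})
    refine ⟨IsLocalization.mk' _ a (⟨t, show π t ∉ P from ht ▸ s.2⟩ : p.primeCompl), ?_⟩
    rw [Localization.localRingHom_mk']
    congr 1
    exact Subtype.ext ht
  have hker : RingHom.ker φ = Ideal.span {algebraMap A (Localization.AtPrime p) f} := by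
    refine le_antisymm (fun y hy => ?_) ((Ideal.span_singleton_le_iff_mem _).2 ?_)
    · obtain ⟨⟨a, s⟩, rfl⟩ := IsLocalization.mk'_surjective p.primeCompl y
      rw [RingHom.mem_ker, Localization.localRingHom_mk', IsLocalization.mk'_eq_zero_iff] at hy
      obtain ⟨u, hu⟩ := hy
      obtain ⟨u', hu'⟩ := Ideal.Quotient.mk_surjective (u : A ⧸ Ideal.span {f})
      have hmem : u' * a ∈ Ideal.span {f} := by
        rw [← Ideal.Quotient.eq_zero_iff_mem, map_mul, hu']
        exact hu
      obtain ⟨c, hc⟩ := Ideal.mem_span_singleton'.1 hmem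
      have hu'' : u' ∈ p.primeCompl := show π u' ∉ P from hu' ▸ u.2
      refine Ideal.mem_span_singleton'.2 ⟨IsLocalization.mk' _ c (⟨u', hu''⟩ * s : p.primeCompl), ?_⟩
      rw [mul_comm, IsLocalization.mul_mk'_eq_mk'_of_mul, IsLocalization.mk'_eq_iff_eq]
      congr 1
      simp only [Submonoid.coe_mul]
      linear_combination (s : A) * hc
    · rw [RingHom.mem_ker, Localization.localRingHom_to_map,
        show π f = 0 from Ideal.Quotient.eq_zero_iff_mem.2 (Ideal.mem_span_singleton_self f), map_zero]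
  exact ⟨(Ideal.quotEquivOfEq hker.symm).trans (RingHom.quotientKerEquivOfSurjective hφs)⟩

variable {A : Type u} [CommRing A] [IsNoetherianRing A] {f : A} (hf : IsSMulRegular A f)
  (P : Ideal A) [P.IsPrime] (hP : f ∈ P)

include hf hP in
/-- The three transfers between `A_P` and `(A ⧸ f)_P`. -/
theorem atPrime_quot : ∃ (Q : Ideal (A ⧸ Ideal.span {f})) (_ : Q.IsPrime), Q = P.map (Ideal.Quotient.mk _) ∧
    (LocCoh.IsCohenMacaulayLocalRing (Localization.AtPrime P) ↔
      LocCoh.IsCohenMacaulayLocalRing (Localization.AtPrime Q)) ∧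
    (LocCoh.IsGorensteinLocalRing (Localization.AtPrime P) ↔
      LocCoh.IsGorensteinLocalRing (Localization.AtPrime Q)) ∧
    ∀ k, (CondS (k + 1) (Localization.AtPrime P) ↔ CondS k (Localization.AtPrime Q)) := by
  let π := Ideal.Quotient.mk (Ideal.span {f})
  have hle : Ideal.span {f} ≤ P := (Ideal.span_singleton_le_iff_mem _).2 hP
  haveI hQ : (P.map π).IsPrime :=
    Ideal.map_isPrime_of_surjective Ideal.Quotient.mk_surjective (by rwa [Ideal.mk_ker])
  have hcomap : (P.map π).comap π = P := by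
    rw [Ideal.comap_map_of_surjective _ Ideal.Quotient.mk_surjective, ← RingHom.ker_eq_comap_bot,
      Ideal.mk_ker, sup_eq_left.mpr hle]
  refine ⟨P.map π, hQ, rfl, ?_⟩
  generalize hQ' : P.map π = Q at hQ hcomap
  subst hcomap
  haveI := hQ
  obtain ⟨e⟩ := exists_equiv f Q
  set R := Localization.AtPrime (Q.comap π)
  set x := algebraMap A R f
  haveI : IsNoetherianRing R := IsLocalization.isNoetherianRing (Q.comap π).primeCompl _ inferInstance
  haveI : IsNoetherianRing (Localization.AtPrime Q) := IsLocalization.isNoetherianRing Q.primeCompl _ inferInstance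
  haveI : IsLocalRing (R ⧸ Ideal.span {x}) := e.symm.isLocalRing
  have hx : x ∈ maximalIdeal R := (IsLocalization.AtPrime.to_map_mem_maximal_iff _ (Q.comap π) f).2 hP
  have hreg : IsSMulRegular R x := hf.of_flat
  refine ⟨(cm_iff hx hreg).trans ⟨fun h => @CMChart.isCohenMacaulayLocalRing_of_ringEquiv _ _ _ _ e h,
      fun h => @CMChart.isCohenMacaulayLocalRing_of_ringEquiv _ _ _ _ e.symm h⟩,
    (Goren.gorenstein_iff_quot x hx hreg).trans (Goren.gorenstein_equiv_iff e), fun k =>
      (condS_iff hx hreg k).trans ⟨fun h => h.of_ringEquiv e, fun h => h.of_ringEquiv e.symm⟩⟩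

end Groth.Agent.FiltRees
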