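import Groth.Prelude.Def_W4c2filtblowupsingRees
import Groth.Agent.FiltRees.Quot
import Groth.Agent.FiltRees.Laurent
import Mathlib.RingTheory.FiniteType
import Mathlib.RingTheory.Polynomial.Basic
import Mathlib.Algebra.Polynomial.AlgebraMap

/-!
# Extended Rees algebras of filtrations
-/

universe u

open scoped LaurentPolynomial

set_option linter.style.haveILetI false

noncomputable section

namespace Groth.Agent.FiltRees

variable {A : Type u} [CommRing A] (𝓕 : FiltBl.IdealFiltration A)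

theorem single_mem {n : ℤ} {a : A} (ha : a ∈ 𝓕.F n.toNat) :
    (AddMonoidAlgebra.single n a : A[T;T⁻¹]) ∈ 𝓕.extRees := fun m => by
  rw [AddMonoidAlgebra.coeff_single]
  rcases eq_or_ne m n with rfl | h
  · rwa [Finsupp.single_eq_same]
  · rw [Finsupp.single_eq_of_ne h]; exact Ideal.zero_mem _

theorem mem_F_zero {n : ℤ} (hn : n ≤ 0) (a : A) : a ∈ 𝓕.F n.toNat := by
  rw [Int.toNat_of_nonpos hn, 𝓕.zero_eq]; trivial

theorem coe_u : ((𝓕.u : 𝓕.extRees) : A[T;T⁻¹]) = LaurentPolynomial.T (-1) := rfl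

theorem u_pow (k : ℕ) : ((𝓕.u ^ k : 𝓕.extRees) : A[T;T⁻¹]) = LaurentPolynomial.T (-(k : ℤ)) := by
  rw [SubmonoidClass.coe_pow, coe_u, LaurentPolynomial.T_pow]
  congr 1; ring

theorem coeff_T_mul (k : ℤ) (w : A[T;T⁻¹]) (n : ℤ) :
    (LaurentPolynomial.T k * w).coeff n = w.coeff (n - k) := by
  induction w using AddMonoidAlgebra.induction with
  | zero => simp
  | single_add m a f _ _ ih =>
    rw [mul_add, AddMonoidAlgebra.coeff_add, AddMonoidAlgebra.coeff_add, Finsupp.add_apply, Finsupp.add_apply, ih,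
      LaurentPolynomial.T, AddMonoidAlgebra.single_mul_single, one_mul, AddMonoidAlgebra.coeff_single,
      AddMonoidAlgebra.coeff_single]
    rcases eq_or_ne n (k + m) with rfl | h
    · rw [Finsupp.single_eq_same, show k + m - k = m by ring, Finsupp.single_eq_same]
    · rw [Finsupp.single_eq_of_ne h, Finsupp.single_eq_of_ne (by omega)]

/-- `A[T;T⁻¹]` is obtained from the extended Rees algebra by inverting `u`. -/
theorem isLocalization : IsLocalization.Away 𝓕.u A[T;T⁻¹] := by
  have hsurj : ∀ z : A[T;T⁻¹], ∃ N : ℕ, LaurentPolynomial.T (-(N : ℤ)) * z ∈ 𝓕.extRees := by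
    intro z
    induction z using AddMonoidAlgebra.induction with
    | zero => exact ⟨0, by rw [mul_zero]; exact zero_mem _⟩
    | single_add m a f _ _ ih =>
      obtain ⟨N, hN⟩ := ih
      refine ⟨N + m.toNat, ?_⟩
      rw [mul_add]
      refine add_mem ?_ ?_
      · rw [LaurentPolynomial.T, AddMonoidAlgebra.single_mul_single, one_mul]
        exact single_mem 𝓕 (mem_F_zero 𝓕 (by omega) _)
      · rw [show -((N + m.toNat : ℕ) : ℤ) = -(m.toNat : ℤ) + -(N : ℤ) by push_cast; ring, LaurentPolynomial.T_add,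
          mul_assoc, ← u_pow 𝓕]
        exact mul_mem (SetLike.coe_mem _) hN
  constructor
  constructor
  · rintro ⟨_, k, rfl⟩
    show IsUnit (((𝓕.u ^ k : 𝓕.extRees)) : A[T;T⁻¹])
    rw [u_pow]
    exact LaurentPolynomial.isUnit_T _
  · intro z
    obtain ⟨N, hN⟩ := hsurj z
    refine ⟨⟨⟨_, hN⟩, ⟨_, N, rfl⟩⟩, ?_⟩
    show z * ((𝓕.u ^ N : 𝓕.extRees) : A[T;T⁻¹]) = _
    rw [u_pow, mul_comm]
    rfl
  · intro x y h
    exact ⟨1, by rw [Subtype.ext (show (x : A[T;T⁻¹]) = y from h)]⟩

theorem u_regular : IsSMulRegular 𝓕.extRees 𝓕.u := by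
  intro x y h
  apply Subtype.ext
  have h' := congrArg (fun w : 𝓕.extRees => LaurentPolynomial.T 1 * (w : A[T;T⁻¹])) h
  simp only [smul_eq_mul, MulMemClass.coe_mul, coe_u, ← mul_assoc, ← LaurentPolynomial.T_add] at h'
  simpa using h'

/-- The Rees algebra inside the extended Rees algebra. -/
def toExt : 𝓕.rees →ₐ[A] 𝓕.extRees :=
  (Polynomial.toLaurentAlg.comp 𝓕.rees.val).codRestrict 𝓕.extRees fun f => by
    show Polynomial.toLaurent (f : Polynomial A) ∈ 𝓕.extRees
    rw [(f : Polynomial A).as_sum_support, map_sum]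
    refine sum_mem fun m _ => ?_
    rw [← Polynomial.C_mul_X_pow_eq_monomial, Polynomial.toLaurent_C_mul_X_pow, ← LaurentPolynomial.single_eq_C_mul_T]
    exact single_mem 𝓕 (by rw [Int.toNat_natCast]; exact f.2 m)

theorem isNoetherianRing_extRees [IsNoetherianRing A] (hfg : Algebra.FiniteType A 𝓕.rees) :
    IsNoetherianRing 𝓕.extRees := by
  haveI : IsNoetherianRing 𝓕.rees := Algebra.FiniteType.isNoetherianRing A 𝓕.rees
  letI := (toExt 𝓕).toRingHom.toAlgebra
  let Φ : Polynomial 𝓕.rees →+* 𝓕.extRees := Polynomial.eval₂RingHom (toExt 𝓕).toRingHom 𝓕.u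
  refine isNoetherianRing_of_surjective _ _ Φ fun z => ?_
  obtain ⟨z, hz⟩ := z
  have key : ∀ (f : A[T;T⁻¹]), (∀ n, f.coeff n ∈ 𝓕.F n.toNat) → ∃ g, (Φ g : A[T;T⁻¹]) = f := by
    intro f
    induction f using AddMonoidAlgebra.induction with
    | zero => exact fun _ => ⟨0, by simp⟩
    | single_add m a g hm ha ih =>
      intro h
      have hne : g.coeff m = 0 := Finsupp.notMem_support_iff.1 hm
      have ha' : a ∈ 𝓕.F m.toNat := by
        have := h m
        rwa [AddMonoidAlgebra.coeff_add, Finsupp.add_apply, AddMonoidAlgebra.coeff_single, Finsupp.single_eq_same,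
          hne, add_zero] at this
      have hg : ∀ n, g.coeff n ∈ 𝓕.F n.toNat := fun n => by
        rcases eq_or_ne n m with rfl | hn
        · rw [hne]; exact Ideal.zero_mem _
        · have := h n
          rwa [AddMonoidAlgebra.coeff_add, Finsupp.add_apply, AddMonoidAlgebra.coeff_single,
            Finsupp.single_eq_of_ne hn, zero_add] at this
      obtain ⟨w, hw⟩ := ih hg
      suffices ∃ v, (Φ v : A[T;T⁻¹]) = AddMonoidAlgebra.single m a by
        obtain ⟨v, hv⟩ := this
        exact ⟨v + w, by rw [map_add, AddMemClass.coe_add, hv, hw]⟩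
      rcases le_or_gt 0 m with h0 | h0
      · let r : 𝓕.rees := ⟨Polynomial.monomial m.toNat a, fun n => by
          rw [Polynomial.coeff_monomial]; split_ifs with e
          · subst e; exact ha'
          · exact Ideal.zero_mem _⟩
        refine ⟨Polynomial.C r, ?_⟩
        simp only [Φ, Polynomial.coe_eval₂RingHom, Polynomial.eval₂_C]
        show Polynomial.toLaurent (Polynomial.monomial m.toNat a) = _
        rw [← Polynomial.C_mul_X_pow_eq_monomial, Polynomial.toLaurent_C_mul_X_pow,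
          ← LaurentPolynomial.single_eq_C_mul_T, Int.toNat_of_nonneg h0]
      · refine ⟨Polynomial.C (algebraMap A 𝓕.rees a) * Polynomial.X ^ (-m).toNat, ?_⟩
        simp only [Φ, Polynomial.coe_eval₂RingHom, Polynomial.eval₂_mul, Polynomial.eval₂_C,
          Polynomial.eval₂_X_pow, MulMemClass.coe_mul, u_pow]
        show Polynomial.toLaurent (Polynomial.C a) * _ = _
        rw [Polynomial.toLaurent_C, ← LaurentPolynomial.single_eq_C_mul_T, Int.toNat_of_nonneg (by omega), neg_neg]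
  obtain ⟨g, hg⟩ := key z hz
  exact ⟨g, Subtype.ext hg⟩

/-- The coefficient of degree `0` of a multiple of `u` is in `F 1`. -/
theorem coeff_zero_of_mem_span_u {z : 𝓕.extRees} (hz : z ∈ Ideal.span {𝓕.u}) :
    (z : A[T;T⁻¹]).coeff 0 ∈ 𝓕.F 1 := by
  obtain ⟨w, rfl⟩ := Ideal.mem_span_singleton'.1 hz
  rw [MulMemClass.coe_mul, coe_u, mul_comm, coeff_T_mul]
  exact w.2 1

theorem F_one_ne_top [Nontrivial A] (hsep : ⨅ n, 𝓕.F n = ⊥) : 𝓕.F 1 ≠ ⊤ := by
  intro h
  have hall : ∀ n, 𝓕.F n = ⊤ := by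
    intro n
    induction n with
    | zero => exact 𝓕.zero_eq
    | succ n ih =>
      refine top_le_iff.1 ?_
      have := 𝓕.mul_le n 1
      rwa [ih, h, Ideal.top_mul] at this
  simp [hall] at hsep

section AtPrime

variable (P' : Ideal A[T;T⁻¹]) [P'.IsPrime]

theorem atPrime_equiv : Nonempty (Localization.AtPrime (P'.comap (algebraMap 𝓕.extRees A[T;T⁻¹])) ≃+*
    Localization.AtPrime P') := by
  haveI := isLocalization 𝓕
  haveI := IsLocalization.isLocalization_isLocalization_atPrime_isLocalization (Submonoid.powers 𝓕.u)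
    (Localization.AtPrime P') P'
  exact ⟨(IsLocalization.algEquiv (P'.comap (algebraMap 𝓕.extRees A[T;T⁻¹])).primeCompl
    (Localization.AtPrime (P'.comap (algebraMap 𝓕.extRees A[T;T⁻¹]))) (Localization.AtPrime P')).toRingEquiv⟩

end AtPrime

theorem exists_prime_of_notMem (P : Ideal 𝓕.extRees) [P.IsPrime] (hP : 𝓕.u ∉ P) :
    ∃ (P' : Ideal A[T;T⁻¹]) (_ : P'.IsPrime), P'.comap (algebraMap 𝓕.extRees A[T;T⁻¹]) = P := by
  haveI := isLocalization 𝓕
  have hd : Disjoint (Submonoid.powers 𝓕.u : Set 𝓕.extRees) P := by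
    rw [Set.disjoint_left]
    rintro _ ⟨k, rfl⟩ hk
    exact hP (Ideal.IsPrime.mem_of_pow_mem ‹_› k hk)
  exact ⟨P.map (algebraMap 𝓕.extRees A[T;T⁻¹]),
    IsLocalization.isPrime_of_isPrime_disjoint (Submonoid.powers 𝓕.u) _ P ‹_› hd,
    IsLocalization.under_map_of_isPrime_disjoint (Submonoid.powers 𝓕.u) _ ‹_› hd⟩

variable [IsNoetherianRing A] (hfg : Algebra.FiniteType A 𝓕.rees)

include hfg in
/-- Cohen–Macaulay and Gorenstein at a prime not containing `u`. -/
theorem off_u (P : Ideal 𝓕.extRees) [P.IsPrime] (p : Ideal A) [p.IsPrime] (P' : Ideal A[T;T⁻¹]) [P'.IsPrime]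
    (hP : P'.comap (algebraMap 𝓕.extRees A[T;T⁻¹]) = P) (hp : P'.comap (algebraMap A A[T;T⁻¹]) = p) :
    (LocCoh.IsCohenMacaulayLocalRing (Localization.AtPrime P) ↔
      LocCoh.IsCohenMacaulayLocalRing (Localization.AtPrime p)) ∧
    (LocCoh.IsGorensteinLocalRing (Localization.AtPrime P) ↔
      LocCoh.IsGorensteinLocalRing (Localization.AtPrime p)) := by
  obtain ⟨e⟩ := atPrime_equiv 𝓕 P'
  haveI := noetherian_laurent A
  haveI := isNoetherianRing_extRees 𝓕 hfg
  rw [← cm_laurent_iff A P' p hp, ← gorenstein_laurent_iff A P' p hp, cm_congr P _ hP.symm,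
    gorenstein_congr P _ hP.symm]
  exact ⟨⟨fun h => @CMChart.isCohenMacaulayLocalRing_of_ringEquiv _ _ _ _ e h,
      fun h => @CMChart.isCohenMacaulayLocalRing_of_ringEquiv _ _ _ _ e.symm h⟩, Goren.gorenstein_equiv_iff e⟩

end Groth.Agent.FiltRees
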