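import Groth.Agent.FiltRees.Basic
import Groth.Agent.FibDepth.GeomNormal
import Groth.Agent.Goren.Local

/-!
# Local properties of the extended Rees algebra against those of the associated graded ring
-/

universe u

open scoped LaurentPolynomial
open IsLocalRing
open Groth.Agent.FlatDepth (CondS)

set_option linter.style.haveILetI false

noncomputable section

namespace Groth.Agent.FiltRees

section Gen

variable {R : Type u} [CommRing R] [IsNoetherianRing R]

theorem exists_below {Q P : Ideal R} [Q.IsPrime] [P.IsPrime] (h : Q ≤ P) :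
    ∃ (q : Ideal (Localization.AtPrime P)) (_ : q.IsPrime), q.comap (algebraMap R _) = Q := by
  have hd : Disjoint (P.primeCompl : Set R) Q := Set.disjoint_left.2 fun x hx hxQ => hx (h hxQ)
  exact ⟨Q.map (algebraMap R _),
    IsLocalization.isPrime_of_isPrime_disjoint P.primeCompl _ Q ‹_› hd,
    IsLocalization.under_map_of_isPrime_disjoint P.primeCompl _ ‹_› hd⟩

theorem cm_of_le {Q P : Ideal R} [Q.IsPrime] [P.IsPrime] (h : Q ≤ P)
    (hP : LocCoh.IsCohenMacaulayLocalRing (Localization.AtPrime P)) :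
    LocCoh.IsCohenMacaulayLocalRing (Localization.AtPrime Q) := by
  obtain ⟨q, hq, hqQ⟩ := exists_below h
  have e := (IsLocalization.localizationLocalizationAtPrimeIsoLocalization P.primeCompl q).toRingEquiv
  exact (cm_congr _ _ hqQ).1 (@CMChart.isCohenMacaulayLocalRing_of_ringEquiv _ _ _ _ e.symm
    (@CMFlat.isCohenMacaulayLocalRing_atPrime _ _ hP q hq))

theorem gorenstein_of_le {Q P : Ideal R} [Q.IsPrime] [P.IsPrime] (h : Q ≤ P)
    (hP : LocCoh.IsGorensteinLocalRing (Localization.AtPrime P)) :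
    LocCoh.IsGorensteinLocalRing (Localization.AtPrime Q) := by
  obtain ⟨q, hq, hqQ⟩ := exists_below h
  obtain ⟨n, hn⟩ := hP.exists_hasInjectiveDimensionLT
  haveI : IsNoetherianRing (Localization.AtPrime P) := IsLocalization.isNoetherianRing P.primeCompl _ inferInstance
  have e := (IsLocalization.localizationLocalizationAtPrimeIsoLocalization P.primeCompl q).toRingEquiv
  exact (gorenstein_congr _ _ hqQ).1 ((Goren.gorenstein_equiv_iff e).2
    (Goren.gorenstein_atPrime (n := n) (CategoryTheory.hasInjectiveDimensionLT_of_ge _ n (n + 1) (by omega)) q).1)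

/-- Cohen–Macaulay transfers along an isomorphism of rings, prime by prime. -/
theorem cm_atPrime_equiv {R' : Type u} [CommRing R'] (e : R ≃+* R') (P : Ideal R') [P.IsPrime] :
    LocCoh.IsCohenMacaulayLocalRing (Localization.AtPrime (P.comap e.toRingHom)) ↔
      LocCoh.IsCohenMacaulayLocalRing (Localization.AtPrime P) := by
  let E : Localization.AtPrime (P.comap e.toRingHom) ≃+* Localization.AtPrime P :=
    IsLocalization.ringEquivOfRingEquiv (M := (P.comap e.toRingHom).primeCompl) (T := P.primeCompl) _ _ e (by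
      ext x
      simp only [Submonoid.mem_map, Ideal.mem_primeCompl_iff]
      refine ⟨?_, fun hx => ⟨e.symm x, ?_, ?_⟩⟩
      · rintro ⟨y, hy, rfl⟩; exact hy
      · intro h; exact hx (by rw [Ideal.mem_comap] at h; simpa using h)
      · simp)
  exact ⟨fun h => @CMChart.isCohenMacaulayLocalRing_of_ringEquiv _ _ _ _ E h,
    fun h => @CMChart.isCohenMacaulayLocalRing_of_ringEquiv _ _ _ _ E.symm h⟩

end Gen

variable {A : Type u} [CommRing A] [IsNoetherianRing A] (𝓕 : FiltBl.IdealFiltration A)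
  (hfg : Algebra.FiniteType A 𝓕.rees)

/-- A prime of the extended Rees algebra over `u` containing the contraction of an extended maximal ideal. -/
theorem exists_top [IsLocalRing A] (hsep : ⨅ n, 𝓕.F n = ⊥) :
    ∃ (N Q : Ideal 𝓕.extRees) (_ : N.IsPrime) (_ : Q.IsPrime) (P' : Ideal A[T;T⁻¹]) (_ : P'.IsPrime),
      𝓕.u ∈ N ∧ Q ≤ N ∧ P'.comap (algebraMap 𝓕.extRees A[T;T⁻¹]) = Q ∧
        P'.comap (algebraMap A A[T;T⁻¹]) = maximalIdeal A := by
  obtain ⟨P', hP', hPA, hmem⟩ := exists_over A (maximalIdeal A)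
  set Q := P'.comap (algebraMap 𝓕.extRees A[T;T⁻¹]) with hQ
  have hne : Q ⊔ Ideal.span {𝓕.u} ≠ ⊤ := by
    intro htop
    obtain ⟨q, hq, w, hw, he⟩ := Submodule.mem_sup.1 ((Ideal.eq_top_iff_one _).1 htop)
    have h1 : ((1 : 𝓕.extRees) : A[T;T⁻¹]).coeff 0 ∈ maximalIdeal A := by
      rw [← he, AddMemClass.coe_add, AddMonoidAlgebra.coeff_add, Finsupp.add_apply]
      exact add_mem ((hmem _).1 hq 0)
        (le_maximalIdeal (F_one_ne_top 𝓕 hsep) (coeff_zero_of_mem_span_u 𝓕 hw))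
    rw [OneMemClass.coe_one, ← LaurentPolynomial.T_zero, LaurentPolynomial.T_apply, if_pos rfl] at h1
    exact (maximalIdeal.isMaximal A).ne_top ((Ideal.eq_top_iff_one _).2 h1)
  obtain ⟨N, hN, hle⟩ := Ideal.exists_le_maximal _ hne
  exact ⟨N, Q, hN.isPrime, inferInstance, P', hP', hle (Ideal.mem_sup_right (Ideal.mem_span_singleton_self _)),
    le_sup_left.trans hle, rfl, hPA⟩

include hfg

theorem cm_iff_gr [IsLocalRing A] (hsep : ⨅ n, 𝓕.F n = ⊥) :
    LocCoh.IsCohenMacaulayRing 𝓕.extRees ↔ LocCoh.IsCohenMacaulayRing 𝓕.Gr := by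
  haveI := isNoetherianRing_extRees 𝓕 hfg
  constructor
  · intro h
    refine { isCohenMacaulayLocalRing_localization := fun Q _ => ?_ }
    obtain ⟨Q', _, hQ', h1, -, -⟩ := atPrime_quot (u_regular 𝓕) (Q.comap (Ideal.Quotient.mk _)) (by
      rw [Ideal.mem_comap, Ideal.Quotient.eq_zero_iff_mem.2 (Ideal.mem_span_singleton_self _)]; exact zero_mem _)
    rw [Ideal.map_comap_of_surjective _ Ideal.Quotient.mk_surjective] at hQ'
    exact (cm_congr _ _ hQ').1 (h1.1 (h.isCohenMacaulayLocalRing_localization _))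
  · intro h
    have hu : ∀ (P : Ideal 𝓕.extRees) [P.IsPrime], 𝓕.u ∈ P →
        LocCoh.IsCohenMacaulayLocalRing (Localization.AtPrime P) := fun P _ hP => by
      obtain ⟨Q', _, -, h1, -, -⟩ := atPrime_quot (u_regular 𝓕) P hP
      exact h1.2 (h.isCohenMacaulayLocalRing_localization _)
    obtain ⟨N, Q, _, _, P', _, hN, hQN, hQ, hQA⟩ := exists_top 𝓕 hsep
    have hm := (off_u 𝓕 hfg Q _ P' hQ hQA).1.1 (cm_of_le hQN (hu N hN))
    refine { isCohenMacaulayLocalRing_localization := fun P _ => ?_ }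
    by_cases hP : 𝓕.u ∈ P
    · exact hu P hP
    obtain ⟨P'', _, hP''⟩ := exists_prime_of_notMem 𝓕 P hP
    exact (off_u 𝓕 hfg P _ P'' hP'' rfl).1.2 (cm_of_le (le_maximalIdeal (Ideal.IsPrime.ne_top inferInstance)) hm)

theorem gorenstein_iff_gr [IsLocalRing A] (hsep : ⨅ n, 𝓕.F n = ⊥) :
    LocCoh.IsGorensteinRing 𝓕.extRees ↔ LocCoh.IsGorensteinRing 𝓕.Gr := by
  haveI := isNoetherianRing_extRees 𝓕 hfg
  constructor
  · intro h
    refine { isGorensteinLocalRing_localization := fun Q _ => ?_ }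
    obtain ⟨Q', _, hQ', -, h1, -⟩ := atPrime_quot (u_regular 𝓕) (Q.comap (Ideal.Quotient.mk _)) (by
      rw [Ideal.mem_comap, Ideal.Quotient.eq_zero_iff_mem.2 (Ideal.mem_span_singleton_self _)]; exact zero_mem _)
    rw [Ideal.map_comap_of_surjective _ Ideal.Quotient.mk_surjective] at hQ'
    exact (gorenstein_congr _ _ hQ').1 (h1.1 (h.isGorensteinLocalRing_localization _))
  · intro h
    have hu : ∀ (P : Ideal 𝓕.extRees) [P.IsPrime], 𝓕.u ∈ P →
        LocCoh.IsGorensteinLocalRing (Localization.AtPrime P) := fun P _ hP => by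
      obtain ⟨Q', _, -, -, h1, -⟩ := atPrime_quot (u_regular 𝓕) P hP
      exact h1.2 (h.isGorensteinLocalRing_localization _)
    obtain ⟨N, Q, _, _, P', _, hN, hQN, hQ, hQA⟩ := exists_top 𝓕 hsep
    have hm := (off_u 𝓕 hfg Q _ P' hQ hQA).2.1 (gorenstein_of_le hQN (hu N hN))
    refine { isGorensteinLocalRing_localization := fun P _ => ?_ }
    by_cases hP : 𝓕.u ∈ P
    · exact hu P hP
    obtain ⟨P'', _, hP''⟩ := exists_prime_of_notMem 𝓕 P hP
    exact (off_u 𝓕 hfg P _ P'' hP'' rfl).2.2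
      (gorenstein_of_le (le_maximalIdeal (Ideal.IsPrime.ne_top inferInstance)) hm)

theorem s2_iff_gr : LocCoh.HasSk 2 𝓕.extRees 𝓕.extRees ↔
    (LocCoh.HasSk 1 𝓕.Gr 𝓕.Gr ∧ LocCoh.HasSk 2 A A) := by
  haveI := isNoetherianRing_extRees 𝓕 hfg
  haveI := noetherian_laurent A
  rw [← hasSk_laurent_iff A 2, FlatDepth.hasSk_iff_condS, FlatDepth.hasSk_iff_condS, FlatDepth.hasSk_iff_condS]
  constructor
  · intro h
    refine ⟨fun Q _ => ?_, fun P' _ => ?_⟩
    · obtain ⟨Q', _, hQ', -, -, h1⟩ := atPrime_quot (u_regular 𝓕) (Q.comap (Ideal.Quotient.mk _)) (by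
        rw [Ideal.mem_comap, Ideal.Quotient.eq_zero_iff_mem.2 (Ideal.mem_span_singleton_self _)]; exact zero_mem _)
      rw [Ideal.map_comap_of_surjective _ Ideal.Quotient.mk_surjective] at hQ'
      exact (condS_congr 1 _ _ hQ').1 ((h1 1).1 (h _))
    · obtain ⟨e⟩ := atPrime_equiv 𝓕 P'
      exact (h _).of_ringEquiv e
  · rintro ⟨hG, hL⟩ P _
    by_cases hP : 𝓕.u ∈ P
    · obtain ⟨Q', _, -, -, -, h1⟩ := atPrime_quot (u_regular 𝓕) P hP
      exact (h1 1).2 (hG _)
    obtain ⟨P'', _, hP''⟩ := exists_prime_of_notMem 𝓕 P hP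
    obtain ⟨e⟩ := atPrime_equiv 𝓕 P''
    exact (condS_congr 2 _ _ hP'').1 ((hL P'').of_ringEquiv e.symm)

/-- The open set away from the ideal of positive degrees. -/
theorem cm_off_plus_iff (G : Type u) [CommRing G] (φ : 𝓕.extRees →+* G) (hφ : Function.Surjective φ)
    (hker : RingHom.ker φ = Ideal.span {𝓕.u}) (Rp : Ideal 𝓕.extRees)
    (hRp : Rp = Ideal.span {x : 𝓕.extRees | ∃ n : ℕ, 0 < n ∧ ∃ a ∈ 𝓕.F n,
      (x : LaurentPolynomial A) = LaurentPolynomial.C a * LaurentPolynomial.T (n : ℤ)}) :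
    (∀ (P : Ideal 𝓕.extRees) [P.IsPrime], ¬ Rp ≤ P →
      LocCoh.IsCohenMacaulayLocalRing (Localization.AtPrime P)) ↔
    ((∀ (p : Ideal G) [p.IsPrime], ¬ Ideal.map φ Rp ≤ p →
        LocCoh.IsCohenMacaulayLocalRing (Localization.AtPrime p)) ∧
      (∀ (q : Ideal A) [q.IsPrime], ¬ 𝓕.F 1 ≤ q → LocCoh.IsCohenMacaulayLocalRing (Localization.AtPrime q))) := by
  haveI := isNoetherianRing_extRees 𝓕 hfg
  let e : 𝓕.Gr ≃+* G := (Ideal.quotEquivOfEq hker.symm).trans (RingHom.quotientKerEquivOfSurjective hφ)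
  have hu0 : φ 𝓕.u = 0 := by rw [← RingHom.mem_ker, hker]; exact Ideal.mem_span_singleton_self _
  have heφ : ∀ x, e (Ideal.Quotient.mk _ x) = φ x := fun x => by
    simp only [e, RingEquiv.trans_apply, Ideal.quotEquivOfEq_mk]
    exact RingHom.quotientKerEquivOfSurjective_apply_mk hφ x
  have key : ∀ (p : Ideal G) [p.IsPrime], LocCoh.IsCohenMacaulayLocalRing (Localization.AtPrime (p.comap φ)) ↔
      LocCoh.IsCohenMacaulayLocalRing (Localization.AtPrime p) := fun p _ => by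
    obtain ⟨Q', _, hQ', h1, -, -⟩ := atPrime_quot (u_regular 𝓕) (p.comap φ)
      (by rw [Ideal.mem_comap, hu0]; exact zero_mem _)
    have hc : (p.comap φ) = (p.comap e.toRingHom).comap (Ideal.Quotient.mk _) := by
      ext x
      simp only [Ideal.mem_comap, RingEquiv.toRingHom_eq_coe, RingHom.coe_coe, heφ]
    rw [hc, Ideal.map_comap_of_surjective _ Ideal.Quotient.mk_surjective] at hQ'
    subst hQ'
    have h2 := cm_atPrime_equiv (R := 𝓕.Gr) e p
    exact ⟨fun h => h2.1 (h1.1 h), fun h => h1.2 (h2.2 h)⟩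
  constructor
  · intro h
    refine ⟨fun p _ hp => (key p).1 (h _ fun hle => hp (Ideal.map_le_iff_le_comap.2 hle)), fun q _ hq => ?_⟩
    obtain ⟨a, haF, haq⟩ := SetLike.not_le_iff_exists.1 hq
    obtain ⟨P', _, hPA, hmem⟩ := exists_over A q
    refine (off_u 𝓕 hfg _ q P' rfl hPA).1.1 (h _ fun hle => haq ?_)
    let x : 𝓕.extRees := ⟨AddMonoidAlgebra.single 1 a, single_mem 𝓕 (by simpa using haF)⟩
    have hx : x ∈ P'.comap (algebraMap 𝓕.extRees A[T;T⁻¹]) := hle (hRp ▸ Ideal.subset_span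
      ⟨1, one_pos, a, haF, LaurentPolynomial.single_eq_C_mul_T a 1⟩)
    have := (hmem _).1 hx 1
    rwa [show (algebraMap 𝓕.extRees A[T;T⁻¹]) x = AddMonoidAlgebra.single 1 a from rfl,
      AddMonoidAlgebra.coeff_single, Finsupp.single_eq_same] at this
  · rintro ⟨hG, hA⟩ P _ hP
    by_cases huP : 𝓕.u ∈ P
    · have hle : RingHom.ker φ ≤ P := hker ▸ (Ideal.span_singleton_le_iff_mem _).2 huP
      haveI : (P.map φ).IsPrime := Ideal.map_isPrime_of_surjective hφ hle
      have hc : (P.map φ).comap φ = P := by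
        rw [Ideal.comap_map_of_surjective _ hφ, ← RingHom.ker_eq_comap_bot, sup_eq_left.mpr hle]
      refine (cm_congr _ _ hc).1 ((key _).2 (hG _ fun hmap => hP ?_))
      rw [← hc]; exact Ideal.map_le_iff_le_comap.1 hmap
    obtain ⟨P', _, hP'⟩ := exists_prime_of_notMem 𝓕 P huP
    refine (off_u 𝓕 hfg P _ P' hP' rfl).1.2 (hA _ fun hle => hP ?_)
    rw [hRp, Ideal.span_le]
    rintro x ⟨n, hn, a, ha, hx⟩
    rw [SetLike.mem_coe, ← hP', Ideal.mem_comap, show (algebraMap 𝓕.extRees A[T;T⁻¹]) x = x from rfl, hx]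
    exact Ideal.mul_mem_right _ _ (Ideal.mem_comap.1 (hle (𝓕.antitone hn ha)))

end Groth.Agent.FiltRees
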