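import Groth.Agent.FiltRees.Iff
import Groth.Agent.FibDepth.SkOne
import Groth.Agent.FinFlatExt.Basic

/-!
# Serre's condition for the Rees algebra from that of the extended Rees algebra
-/

universe u

open scoped LaurentPolynomial
open IsLocalRing
open Groth.Agent.FlatDepth (CondS)

set_option linter.style.haveILetI false
set_option backward.isDefEq.respectTransparency false
set_option backward.isDefEq.respectTransparency.types false

noncomputable section

namespace Groth.Agent.FiltRees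

section Gen

variable {R : Type u} [CommRing R] [IsNoetherianRing R]

theorem regular_of_mul_eq_zero {T : Type u} [CommRing T] {x : T} (h : ∀ r, x * r = 0 → r = 0) :
    IsSMulRegular T x := fun u v huv => sub_eq_zero.1 (h _ (by rw [mul_sub, sub_eq_zero]; exact huv))

theorem condS_one_of_two {T : Type u} [CommRing T] [IsLocalRing T] (h : CondS 2 T) : CondS 1 T :=
  le_trans (min_le_min (by exact_mod_cast (show (1 : ℕ) ≤ 2 by omega)) le_rfl) h

theorem condS_one_of_notMem (Q : Ideal R) [Q.IsPrime] (h : Q ∉ associatedPrimes R R) :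
    CondS 1 (Localization.AtPrime Q) := by
  refine (min_le_left _ _).trans ?_
  rw [← WithBot.coe_natCast, WithBot.coe_le_coe, Nat.cast_one, Order.one_le_iff_pos]
  exact pos_iff_ne_zero.2 fun h0 => h ((FibDepth.mem_associatedPrimes_self_iff Q).2 h0)

theorem height_eq_zero_of_mem (h1 : LocCoh.HasSk 1 R R) {Q : Ideal R} [Q.IsPrime]
    (h : Q ∈ associatedPrimes R R) : Q.height = 0 :=
  Ideal.height_eq_zero_iff.2 ((FibDepth.hasSk_one_iff R).1 h1 Q h)

theorem hasSk_one_of_two (h : LocCoh.HasSk 2 R R) : LocCoh.HasSk 1 R R := by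
  rw [FlatDepth.hasSk_iff_condS] at h ⊢
  exact fun q _ => condS_one_of_two (h q)

theorem exists_regular_mem (h2 : LocCoh.HasSk 1 R R) {I : Ideal R} (hI : 1 ≤ I.height) :
    ∃ a ∈ I, IsSMulRegular R a := by
  by_contra hc
  push Not at hc
  have hsub : ((I : Ideal R) : Set R) ⊆ ⋃ P ∈ associatedPrimes R R, (P : Set R) := by
    rw [biUnion_associatedPrimes_eq_zero_divisors]
    intro x hx
    have := hc x hx
    rw [isSMulRegular_iff_right_eq_zero_of_smul] at this
    push Not at this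
    obtain ⟨y, hy, hy0⟩ := this
    exact ⟨y, hy0, hy⟩
  obtain ⟨P, hP, hle⟩ := (Ideal.subset_union_prime_finite (associatedPrimes.finite R R) ⊥ ⊥
    fun P hP _ _ => IsAssociatedPrime.isPrime hP).1 hsub
  haveI : P.IsPrime := IsAssociatedPrime.isPrime hP
  exact absurd (hI.trans ((Ideal.height_mono hle).trans (height_eq_zero_of_mem h2 hP).le)) (by simp)

/-- In a ring with `(S_2)` no associated prime of a regular element has height two. -/
theorem mem_span_of_mul_mem (h : LocCoh.HasSk 2 R R) {a : R} (ha : IsSMulRegular R a) {y : R} (J : Ideal R)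
    (hJ : ∀ (Q : Ideal R) [Q.IsPrime], J ≤ Q → 2 ≤ Q.height) (hy : ∀ j ∈ J, y * j ∈ Ideal.span {a}) :
    y ∈ Ideal.span {a} := by
  by_contra hne
  let S := R ⧸ Ideal.span {a}
  obtain ⟨Q', hQ', hle⟩ := exists_le_isAssociatedPrime_of_isNoetherianRing S (Ideal.Quotient.mk _ y)
    (fun h0 => hne (Ideal.Quotient.eq_zero_iff_mem.1 h0))
  haveI : Q'.IsPrime := IsAssociatedPrime.isPrime hQ'
  let Q := Q'.comap (Ideal.Quotient.mk (Ideal.span {a}))
  have haQ : a ∈ Q := by
    rw [Ideal.mem_comap, Ideal.Quotient.eq_zero_iff_mem.2 (Ideal.mem_span_singleton_self a)]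
    exact zero_mem _
  have hJQ : J ≤ Q := fun j hj => hle (Submodule.mem_colon_singleton.2 (by
    rw [Submodule.mem_bot, smul_eq_mul, ← map_mul, Ideal.Quotient.eq_zero_iff_mem, mul_comm]
    exact hy j hj))
  obtain ⟨Q'', hpr, hQ'', -, -, hS⟩ := atPrime_quot ha Q haQ
  rw [Ideal.map_comap_of_surjective _ Ideal.Quotient.mk_surjective] at hQ''
  subst hQ''
  rw [FlatDepth.hasSk_iff_condS] at h
  have h1 := (hS 1).1 (h Q)
  have h0 : Q''.height = 0 := by
    rw [CondS, (FibDepth.mem_associatedPrimes_self_iff Q'').1 hQ',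
      IsLocalization.AtPrime.ringKrullDim_eq_height Q'' (Localization.AtPrime Q''), WithBot.coe_zero, Nat.cast_one,
      min_le_iff] at h1
    rcases h1 with h1 | h1
    · exact absurd h1 (by simp)
    · exact le_antisymm (WithBot.coe_le_coe.1 h1) zero_le
  have hmin : Q ∈ (Ideal.span {a}).minimalPrimes := by
    rw [Ideal.minimalPrimes_eq_comap]
    exact ⟨Q'', Ideal.height_eq_zero_iff.1 h0, rfl⟩
  haveI : (Ideal.span {a}).IsPrincipal := ⟨⟨a, rfl⟩⟩
  exact absurd ((hJ Q hJQ).trans (Ideal.height_le_one_of_isPrincipal_of_mem_minimalPrimes _ _ hmin)) (by norm_num)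

end Gen

variable {A : Type u} [CommRing A] (𝓕 : FiltBl.IdealFiltration A)

/-- A homogeneous element of the Rees algebra. -/
def mono (n : ℕ) (b : A) (hb : b ∈ 𝓕.F n) : 𝓕.rees :=
  ⟨Polynomial.monomial n b, fun m => by
    rw [Polynomial.coeff_monomial]
    split_ifs with e
    · subst e; exact hb
    · exact Ideal.zero_mem _⟩

theorem eq_sum_mono (r : 𝓕.rees) :
    r = ∑ n ∈ (r : Polynomial A).support, mono 𝓕 n ((r : Polynomial A).coeff n) (r.2 n) :=
  Subtype.ext (by rw [AddSubmonoidClass.coe_finset_sum]; exact (r : Polynomial A).as_sum_support)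

/-- The augmentation of the Rees algebra. -/
def aug : 𝓕.rees →+* A := (Polynomial.constantCoeff).comp 𝓕.rees.val.toRingHom

theorem aug_apply (r : 𝓕.rees) : aug 𝓕 r = (r : Polynomial A).coeff 0 := rfl

theorem aug_algebraMap (c : A) : aug 𝓕 (algebraMap A 𝓕.rees c) = c := Polynomial.coeff_C_zero

/-- An ideal containing the positive degrees is determined in degree zero. -/
theorem mem_iff_of_plus (P : Ideal 𝓕.rees)
    (h : ∀ (n : ℕ) (b : A) (hb : b ∈ 𝓕.F n), 0 < n → mono 𝓕 n b hb ∈ P) (r : 𝓕.rees) :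
    r ∈ P ↔ algebraMap A 𝓕.rees (aug 𝓕 r) ∈ P := by
  have hd : r - algebraMap A 𝓕.rees (aug 𝓕 r) ∈ P := by
    set w := r - algebraMap A 𝓕.rees (aug 𝓕 r) with hw
    have h0 : (w : Polynomial A).coeff 0 = 0 := by
      rw [← aug_apply, hw, map_sub, aug_algebraMap, sub_self]
    rw [eq_sum_mono 𝓕 w]
    refine sum_mem fun n hn => h n _ _ (Nat.pos_of_ne_zero fun e => ?_)
    subst e
    exact Polynomial.mem_support_iff.1 hn h0
  exact ⟨fun hr => by simpa using P.sub_mem hr hd, fun hr => by simpa using P.add_mem hr hd⟩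

theorem mono_mul (n m : ℕ) (b c : A) (hb : b ∈ 𝓕.F n) (hc : c ∈ 𝓕.F m) :
    mono 𝓕 n b hb * mono 𝓕 m c hc = mono 𝓕 (n + m) (b * c) (𝓕.mul_le n m (Ideal.mul_mem_mul hb hc)) :=
  Subtype.ext (Polynomial.monomial_mul_monomial n m b c)

theorem toExt_coe (r : 𝓕.rees) : ((toExt 𝓕 r : 𝓕.extRees) : A[T;T⁻¹]) = Polynomial.toLaurent (r : Polynomial A) :=
  rfl

theorem toExt_mono (n : ℕ) (b : A) (hb : b ∈ 𝓕.F n) :
    ((toExt 𝓕 (mono 𝓕 n b hb) : 𝓕.extRees) : A[T;T⁻¹]) = AddMonoidAlgebra.single (n : ℤ) b := by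
  rw [toExt_coe]
  show Polynomial.toLaurent (Polynomial.monomial n b) = _
  rw [← Polynomial.C_mul_X_pow_eq_monomial, Polynomial.toLaurent_C_mul_X_pow, ← LaurentPolynomial.single_eq_C_mul_T]

theorem toExt_injective : Function.Injective (toExt 𝓕) := fun x y h =>
  Subtype.ext (Polynomial.toLaurent_injective (congrArg Subtype.val h))

theorem exists_toExt_of_coeff (z : 𝓕.extRees) (h : ∀ n : ℤ, n < 0 → (z : A[T;T⁻¹]).coeff n = 0) :
    ∃ r, toExt 𝓕 r = z := by
  refine ⟨∑ n ∈ (z : A[T;T⁻¹]).coeff.support, mono 𝓕 n.toNat ((z : A[T;T⁻¹]).coeff n) (z.2 n), Subtype.ext ?_⟩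
  rw [map_sum, AddSubmonoidClass.coe_finset_sum]
  conv_rhs => rw [← AddMonoidAlgebra.sum_coeff_single (z : A[T;T⁻¹])]
  refine Finset.sum_congr rfl fun n hn => ?_
  rw [toExt_mono, Int.toNat_of_nonneg (not_lt.1 fun hlt => Finsupp.mem_support_iff.1 hn (h n hlt))]

section Away

variable (n : ℕ) (b : A) (hb : b ∈ 𝓕.F n) (hn : 0 < n)

include hn in
theorem exists_pow_mul (z : 𝓕.extRees) : ∃ (N : ℕ) (r : 𝓕.rees), toExt 𝓕 r = z * toExt 𝓕 (mono 𝓕 n b hb) ^ N := by
  refine ⟨∑ m ∈ (z : A[T;T⁻¹]).coeff.support, m.natAbs, ?_⟩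
  set N := ∑ m ∈ (z : A[T;T⁻¹]).coeff.support, m.natAbs with hN
  suffices ∃ r, toExt 𝓕 r = z * toExt 𝓕 (mono 𝓕 n b hb) ^ N from this
  refine exists_toExt_of_coeff 𝓕 _ fun m hm => ?_
  rw [MulMemClass.coe_mul, SubmonoidClass.coe_pow, toExt_mono, AddMonoidAlgebra.single_pow]
  classical
  rw [AddMonoidAlgebra.coeff_mul]
  simp only [AddMonoidAlgebra.coeff_single]
  rw [Finsupp.sum]
  refine Finset.sum_eq_zero fun i hi => ?_
  rw [Finsupp.sum_single_index (by simp), if_neg]
  intro he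
  have h1 : i.natAbs ≤ N := Finset.single_le_sum (f := Int.natAbs) (fun _ _ => zero_le) hi
  have h2 : (N : ℤ) ≤ N * n := by nlinarith
  rw [nsmul_eq_mul] at he
  push_cast at he
  omega

include hn in
theorem exists_localization_equiv (P : Ideal 𝓕.rees) [P.IsPrime] (hP : mono 𝓕 n b hb ∉ P) :
    ∃ (Q : Ideal 𝓕.extRees) (_ : Q.IsPrime), Nonempty (Localization.AtPrime Q ≃+* Localization.AtPrime P) := by
  letI := (toExt 𝓕).toRingHom.toAlgebra
  let x := mono 𝓕 n b hb
  let L := Localization.Away (algebraMap 𝓕.rees 𝓕.extRees x)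
  haveI : IsLocalization.Away x L := by
    constructor
    constructor
    · rintro ⟨_, k, rfl⟩
      rw [map_pow, IsScalarTower.algebraMap_apply 𝓕.rees 𝓕.extRees L]
      exact (IsLocalization.Away.algebraMap_isUnit _).pow k
    · intro z
      obtain ⟨⟨w, ⟨_, k, rfl⟩⟩, hw⟩ := IsLocalization.surj (Submonoid.powers (algebraMap 𝓕.rees 𝓕.extRees x)) z
      obtain ⟨N, r, hr⟩ := exists_pow_mul 𝓕 n b hb hn w
      refine ⟨⟨r, ⟨_, k + N, rfl⟩⟩, ?_⟩
      simp only at hw ⊢
      rw [IsScalarTower.algebraMap_apply 𝓕.rees 𝓕.extRees L r, IsScalarTower.algebraMap_apply 𝓕.rees 𝓕.extRees L,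
        show algebraMap 𝓕.rees 𝓕.extRees r = w * algebraMap 𝓕.rees 𝓕.extRees x ^ N from hr]
      simp only [map_mul, map_pow, pow_add] at hw ⊢
      rw [← hw, mul_assoc]
    · intro r s h
      rw [IsScalarTower.algebraMap_apply 𝓕.rees 𝓕.extRees L, IsScalarTower.algebraMap_apply 𝓕.rees 𝓕.extRees L] at h
      obtain ⟨⟨_, k, rfl⟩, hc⟩ :=
        IsLocalization.exists_of_eq (M := Submonoid.powers (algebraMap 𝓕.rees 𝓕.extRees x)) h
      refine ⟨⟨_, k, rfl⟩, toExt_injective 𝓕 ?_⟩
      rw [map_mul, map_mul, map_pow]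
      exact hc
  have hd : Disjoint (Submonoid.powers x : Set 𝓕.rees) P := by
    rw [Set.disjoint_left]
    rintro _ ⟨k, rfl⟩ hk
    exact hP (Ideal.IsPrime.mem_of_pow_mem ‹_› k hk)
  haveI : (P.map (algebraMap 𝓕.rees L)).IsPrime :=
    IsLocalization.isPrime_of_isPrime_disjoint (Submonoid.powers x) _ P ‹_› hd
  have hPc : (P.map (algebraMap 𝓕.rees L)).comap (algebraMap 𝓕.rees L) = P :=
    IsLocalization.under_map_of_isPrime_disjoint (Submonoid.powers x) _ ‹_› hd
  generalize hm : P.map (algebraMap 𝓕.rees L) = PL at *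
  haveI := IsLocalization.isLocalization_isLocalization_atPrime_isLocalization (Submonoid.powers x)
    (Localization.AtPrime PL) PL
  haveI := IsLocalization.isLocalization_isLocalization_atPrime_isLocalization
    (Submonoid.powers (algebraMap 𝓕.rees 𝓕.extRees x)) (Localization.AtPrime PL) PL
  refine ⟨PL.comap (algebraMap 𝓕.extRees L), inferInstance, ?_⟩
  subst hPc
  exact ⟨(IsLocalization.algEquiv (PL.comap (algebraMap 𝓕.extRees L)).primeCompl
      (Localization.AtPrime (PL.comap (algebraMap 𝓕.extRees L))) (Localization.AtPrime PL)).toRingEquiv.trans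
    (IsLocalization.algEquiv (PL.comap (algebraMap 𝓕.rees L)).primeCompl
      (Localization.AtPrime PL) (Localization.AtPrime (PL.comap (algebraMap 𝓕.rees L)))).toRingEquiv⟩

end Away

theorem height_le_contraction (q : Ideal A) [q.IsPrime] :
    ∃ (q' : Ideal 𝓕.extRees) (_ : q'.IsPrime), (∀ z : 𝓕.extRees, z ∈ q' ↔ ∀ n, (z : A[T;T⁻¹]).coeff n ∈ q) ∧
      q.height ≤ q'.height := by
  choose P hP _ hmem using fun p : PrimeSpectrum A => exists_over A p.asIdeal
  let f : PrimeSpectrum A → PrimeSpectrum 𝓕.extRees := fun p =>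
    ⟨(P p).comap (algebraMap 𝓕.extRees A[T;T⁻¹]), by haveI := hP p; infer_instance⟩
  have hm : ∀ p z, z ∈ (f p).asIdeal ↔ ∀ n, (z : A[T;T⁻¹]).coeff n ∈ p.asIdeal := fun p z => hmem p _
  have hf : StrictMono f := fun p p' hlt => by
    obtain ⟨hle, hnle⟩ := hlt
    refine ⟨fun z hz => (hm p' z).2 fun m => hle ((hm p z).1 hz m), fun hge => hnle fun c hc => ?_⟩
    have hz : (algebraMap A 𝓕.extRees c) ∈ (f p').asIdeal := (hm p' _).2 fun m => by
      show (algebraMap A A[T;T⁻¹] c).coeff m ∈ p'.asIdeal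
      rw [LaurentPolynomial.algebraMap_apply, Algebra.algebraMap_self, RingHom.id_apply, LaurentPolynomial.C_apply]
      split_ifs
      exacts [hc, zero_mem _]
    have := (hm p _).1 (hge hz) 0
    change (algebraMap A A[T;T⁻¹] c).coeff 0 ∈ p.asIdeal at this
    rwa [LaurentPolynomial.algebraMap_apply, Algebra.algebraMap_self, RingHom.id_apply, LaurentPolynomial.C_apply,
      if_pos rfl] at this
  have := Order.height_le_height_apply_of_strictMono f hf ⟨q, inferInstance⟩
  rw [← PrimeSpectrum.height_eq_orderHeight, ← PrimeSpectrum.height_eq_orderHeight] at this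
  exact ⟨(f ⟨q, inferInstance⟩).asIdeal, inferInstance, hm _, this⟩

/-- The ideal generated by `F 1` and the positive degrees has height at least two. -/
theorem two_le_height (hht : 2 ≤ (𝓕.F 1).height) (Q : Ideal 𝓕.extRees) [Q.IsPrime]
    (h0 : ∀ c ∈ 𝓕.F 1, algebraMap A 𝓕.extRees c ∈ Q)
    (h1 : ∀ (n : ℕ) (b : A) (hb : b ∈ 𝓕.F n), 0 < n → toExt 𝓕 (mono 𝓕 n b hb) ∈ Q) : 2 ≤ Q.height := by
  set q := Q.comap (algebraMap A 𝓕.extRees) with hq
  obtain ⟨q', _, hm, hle⟩ := height_le_contraction 𝓕 q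
  refine (hht.trans ((Ideal.height_mono (fun c hc => h0 c hc)).trans hle)).trans (Ideal.height_mono fun z hz => ?_)
  have hs : z = ∑ n ∈ (z : A[T;T⁻¹]).coeff.support,
      (⟨AddMonoidAlgebra.single n ((z : A[T;T⁻¹]).coeff n), single_mem 𝓕 (z.2 n)⟩ : 𝓕.extRees) :=
    Subtype.ext (by rw [AddSubmonoidClass.coe_finset_sum]; exact (AddMonoidAlgebra.sum_coeff_single _).symm)
  rw [hs]
  refine sum_mem fun n _ => ?_
  rcases le_or_gt n 0 with hn | hn
  · rw [show (⟨AddMonoidAlgebra.single n ((z : A[T;T⁻¹]).coeff n), single_mem 𝓕 (z.2 n)⟩ : 𝓕.extRees) =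
        algebraMap A 𝓕.extRees ((z : A[T;T⁻¹]).coeff n) * 𝓕.u ^ (-n).toNat from Subtype.ext (by
      rw [MulMemClass.coe_mul, u_pow, Int.toNat_of_nonneg (by omega), neg_neg]
      show _ = algebraMap A A[T;T⁻¹] _ * _
      rw [LaurentPolynomial.algebraMap_apply, Algebra.algebraMap_self, RingHom.id_apply]
      exact LaurentPolynomial.single_eq_C_mul_T _ _)]
    exact Ideal.mul_mem_right _ _ ((hm z).1 hz n)
  · rw [show (⟨AddMonoidAlgebra.single n ((z : A[T;T⁻¹]).coeff n), single_mem 𝓕 (z.2 n)⟩ : 𝓕.extRees) =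
        toExt 𝓕 (mono 𝓕 n.toNat ((z : A[T;T⁻¹]).coeff n) (z.2 n)) from Subtype.ext (by
      rw [toExt_mono, Int.toNat_of_nonneg hn.le])]
    exact h1 _ _ _ (by omega)

theorem condS_two_of_notMem_F_one [IsNoetherianRing 𝓕.rees] [IsNoetherianRing A] (hA : LocCoh.HasSk 1 A A)
    (P : Ideal 𝓕.rees) [P.IsPrime]
    (h : ∀ (n : ℕ) (b : A) (hb : b ∈ 𝓕.F n), 0 < n → mono 𝓕 n b hb ∈ P)
    {a : A} (ha : a ∈ 𝓕.F 1) (hap : algebraMap A 𝓕.rees a ∉ P) : CondS 2 (Localization.AtPrime P) := by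
  letI : CommRing (Localization.AtPrime P) := inferInstance
  let p := P.comap (algebraMap A 𝓕.rees)
  have hP : P = p.comap (aug 𝓕) := Ideal.ext fun r => mem_iff_of_plus 𝓕 P h r
  let φ := Localization.localRingHom P p (aug 𝓕) hP
  set xm := mono 𝓕 1 a ha with hxm
  set x := algebraMap 𝓕.rees (Localization.AtPrime P) xm with hx
  have hxP : xm ∈ P := h 1 a ha one_pos
  have hunit : IsUnit (algebraMap 𝓕.rees (Localization.AtPrime P) (algebraMap A 𝓕.rees a)) :=
    IsLocalization.map_units (Localization.AtPrime P) (⟨_, hap⟩ : P.primeCompl)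
  have hreg : IsSMulRegular (Localization.AtPrime P) x := by
    refine regular_of_mul_eq_zero ?_
    intro y hy
    obtain ⟨⟨r, s⟩, rfl⟩ := IsLocalization.mk'_surjective P.primeCompl y
    rw [hx, IsLocalization.mul_mk'_eq_mk'_of_mul, IsLocalization.mk'_eq_zero_iff] at hy
    obtain ⟨t, ht⟩ := hy
    have h1 : algebraMap A 𝓕.rees a * (t * r) = 0 := by
      refine Subtype.ext (Polynomial.ext fun m => ?_)
      have := congrArg Subtype.val ht
      simp only [MulMemClass.coe_mul, ZeroMemClass.coe_zero, hxm] at this ⊢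
      rw [show ((mono 𝓕 1 a ha : 𝓕.rees) : Polynomial A) = Polynomial.monomial 1 a from rfl,
        ← Polynomial.C_mul_X_eq_monomial] at this
      have h2 : Polynomial.X * (Polynomial.C a * ((t : 𝓕.rees) * r : Polynomial A)) = 0 := by linear_combination this
      have h3 := congrArg (fun w : Polynomial A => w.coeff (m + 1)) h2
      rw [Polynomial.coeff_zero]
      simpa [Polynomial.coeff_X_mul] using h3
    rw [IsLocalization.mk'_eq_zero_iff]
    refine ⟨(⟨_, hap⟩ : P.primeCompl) * t, ?_⟩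
    rw [Submonoid.coe_mul, mul_assoc]
    exact h1
  have hφs : Function.Surjective φ := fun y => by
    obtain ⟨⟨c, s⟩, rfl⟩ := IsLocalization.mk'_surjective p.primeCompl y
    refine ⟨IsLocalization.mk' _ (algebraMap A 𝓕.rees c) (⟨algebraMap A 𝓕.rees s, s.2⟩ : P.primeCompl), ?_⟩
    rw [Localization.localRingHom_mk']
    congr 1
    · exact aug_algebraMap 𝓕 c
    · exact Subtype.ext (aug_algebraMap 𝓕 s)
  have hker : RingHom.ker φ = Ideal.span {x} := by
    refine le_antisymm (fun y hy => ?_) ((Ideal.span_singleton_le_iff_mem _).2 ?_)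
    · obtain ⟨⟨r, s⟩, rfl⟩ := IsLocalization.mk'_surjective P.primeCompl y
      rw [RingHom.mem_ker, Localization.localRingHom_mk', IsLocalization.mk'_eq_zero_iff] at hy
      obtain ⟨⟨t, ht⟩, htr⟩ := hy
      have hw0 : aug 𝓕 (algebraMap A 𝓕.rees t * r) = 0 := by rw [map_mul, aug_algebraMap]; exact htr
      have hmem : algebraMap A 𝓕.rees a * (algebraMap A 𝓕.rees t * r) ∈ Ideal.span {xm} := by
        set w := algebraMap A 𝓕.rees t * r with hw
        rw [eq_sum_mono 𝓕 w, Finset.mul_sum]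
        refine sum_mem fun n hn => ?_
        obtain ⟨m, rfl⟩ : ∃ m, n = m + 1 := Nat.exists_eq_succ_of_ne_zero fun e => by
          subst e
          exact Polynomial.mem_support_iff.1 hn hw0
        refine Ideal.mem_span_singleton'.2 ⟨mono 𝓕 m ((w : Polynomial A).coeff (m + 1))
          (𝓕.antitone (Nat.le_succ m) (w.2 (m + 1))), Subtype.ext ?_⟩
        show Polynomial.monomial m _ * Polynomial.monomial 1 a = Polynomial.C a * Polynomial.monomial (m + 1) _
        rw [Polynomial.monomial_mul_monomial, Polynomial.C_mul_monomial, mul_comm]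
      obtain ⟨v, hv⟩ := Ideal.mem_span_singleton'.1 hmem
      have hu : algebraMap A 𝓕.rees a * algebraMap A 𝓕.rees t ∈ P.primeCompl :=
        P.primeCompl.mul_mem hap (show algebraMap A 𝓕.rees t ∉ P from ht)
      refine Ideal.mem_span_singleton'.2 ⟨IsLocalization.mk' _ v ((⟨_, hu⟩ : P.primeCompl) * s), ?_⟩
      rw [mul_comm, hx, IsLocalization.mul_mk'_eq_mk'_of_mul, IsLocalization.mk'_eq_iff_eq]
      congr 1
      simp only [Submonoid.coe_mul]
      linear_combination (s : 𝓕.rees) * hv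
    · rw [RingHom.mem_ker, hx, Localization.localRingHom_to_map,
        show aug 𝓕 xm = 0 from Polynomial.coeff_monomial_of_ne a one_ne_zero.symm, map_zero]
  let e : (Localization.AtPrime P ⧸ Ideal.span {x}) ≃+* Localization.AtPrime p :=
    (Ideal.quotEquivOfEq hker.symm).trans (RingHom.quotientKerEquivOfSurjective hφs)
  haveI : IsNoetherianRing (Localization.AtPrime P) := IsLocalization.isNoetherianRing P.primeCompl _ inferInstance
  haveI : IsNoetherianRing (Localization.AtPrime p) := IsLocalization.isNoetherianRing p.primeCompl _ inferInstance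
  haveI : IsLocalRing (Localization.AtPrime P ⧸ Ideal.span {x}) := e.symm.isLocalRing
  refine (condS_iff ((IsLocalization.AtPrime.to_map_mem_maximal_iff _ P xm).2 hxP) hreg 1).2 ?_
  rw [FlatDepth.hasSk_iff_condS] at hA
  exact (hA p).of_ringEquiv e.symm

theorem condS_two_of_F_one_le [IsNoetherianRing 𝓕.rees] [IsNoetherianRing 𝓕.extRees]
    (hR' : LocCoh.HasSk 2 𝓕.extRees 𝓕.extRees) (hht : 2 ≤ (𝓕.F 1).height)
    (P : Ideal 𝓕.rees) [P.IsPrime]
    (h : ∀ (n : ℕ) (b : A) (hb : b ∈ 𝓕.F n), 0 < n → mono 𝓕 n b hb ∈ P)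
    (h1 : ∀ c ∈ 𝓕.F 1, algebraMap A 𝓕.rees c ∈ P)
    {a : A} (ha : a ∈ 𝓕.F 1) (hreg : IsSMulRegular A a) : CondS 2 (Localization.AtPrime P) := by
  have hregR : IsSMulRegular 𝓕.rees (algebraMap A 𝓕.rees a) := by
    refine regular_of_mul_eq_zero fun r hr => ?_
    refine Subtype.ext (Polynomial.ext fun m => ?_)
    have := congrArg (fun w : 𝓕.rees => (w : Polynomial A).coeff m) hr
    simp only [MulMemClass.coe_mul, Subalgebra.coe_algebraMap, Polynomial.algebraMap_eq,
      Polynomial.coeff_C_mul, ZeroMemClass.coe_zero, Polynomial.coeff_zero] at this ⊢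
    exact (isSMulRegular_iff_right_eq_zero_of_smul.1 hreg) _ this
  have hregE : IsSMulRegular 𝓕.extRees (algebraMap A 𝓕.extRees a) := by
    refine regular_of_mul_eq_zero fun r hr => ?_
    refine Subtype.ext (AddMonoidAlgebra.ext (Finsupp.ext fun m => ?_))
    have := congrArg (fun w : 𝓕.extRees => (w : A[T;T⁻¹]).coeff m) hr
    simp only [MulMemClass.coe_mul, Subalgebra.coe_algebraMap, ← Algebra.smul_def,
      AddMonoidAlgebra.coeff_smul, Finsupp.smul_apply, ZeroMemClass.coe_zero] at this ⊢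
    rw [AddMonoidAlgebra.coeff_zero, Finsupp.zero_apply] at this ⊢
    exact (isSMulRegular_iff_right_eq_zero_of_smul.1 hreg) _ this
  obtain ⟨Q, _, hQ, -, -, hS⟩ := atPrime_quot hregR P (h1 a ha)
  refine (hS 1).2 (condS_one_of_notMem Q fun hass => ?_)
  obtain ⟨_, ybar, hy⟩ := isAssociatedPrime_iff.1 hass
  obtain ⟨y, rfl⟩ := Ideal.Quotient.mk_surjective ybar
  have hmul : ∀ j ∈ P, y * j ∈ Ideal.span {algebraMap A 𝓕.rees a} := fun j hj => by
    have : Ideal.Quotient.mk (Ideal.span {algebraMap A 𝓕.rees a}) j ∈ Q := hQ ▸ Ideal.mem_map_of_mem _ hj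
    rw [hy, Submodule.mem_colon_singleton, Submodule.mem_bot, smul_eq_mul, ← map_mul,
      Ideal.Quotient.eq_zero_iff_mem, mul_comm] at this
    exact this
  have hcomm : ∀ c : A, toExt 𝓕 (algebraMap A 𝓕.rees c) = algebraMap A 𝓕.extRees c := (toExt 𝓕).commutes
  have hy' : toExt 𝓕 y ∈ Ideal.span {algebraMap A 𝓕.extRees a} := by
    refine mem_span_of_mul_mem hR' hregE (P.map (toExt 𝓕).toRingHom) (fun Q' _ hle => ?_) fun j hj => ?_
    · refine two_le_height 𝓕 hht Q' (fun c hc => ?_) (fun n b hb hn => hle (Ideal.mem_map_of_mem _ (h n b hb hn)))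
      rw [← hcomm c]
      exact hle (Ideal.mem_map_of_mem _ (h1 c hc))
    · induction hj using Submodule.span_induction with
      | mem z hz =>
        obtain ⟨w, hw, rfl⟩ := hz
        obtain ⟨v, hv⟩ := Ideal.mem_span_singleton'.1 (hmul w hw)
        refine Ideal.mem_span_singleton'.2 ⟨toExt 𝓕 v, ?_⟩
        show _ = toExt 𝓕 y * toExt 𝓕 w
        rw [← hcomm, ← map_mul, ← map_mul, hv]
      | zero => rw [mul_zero]; exact zero_mem _
      | add z w _ _ hz hw => rw [mul_add]; exact add_mem hz hw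
      | smul c z _ hz => rw [smul_eq_mul, mul_left_comm]; exact Ideal.mul_mem_left _ c hz
  obtain ⟨w, hw⟩ := Ideal.mem_span_singleton'.1 hy'
  obtain ⟨v, rfl⟩ := exists_toExt_of_coeff 𝓕 w fun m hm => by
    have h2 := congrArg (fun z : 𝓕.extRees => (z : A[T;T⁻¹]).coeff m) hw
    simp only [MulMemClass.coe_mul, Subalgebra.coe_algebraMap] at h2
    rw [mul_comm, ← Algebra.smul_def, AddMonoidAlgebra.coeff_smul, Finsupp.smul_apply, toExt_coe] at h2
    refine (isSMulRegular_iff_right_eq_zero_of_smul.1 hreg) _ (h2.trans ?_)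
    induction (y : Polynomial A) using Polynomial.induction_on' with
    | add f g hf hg => rw [map_add, AddMonoidAlgebra.coeff_add, Finsupp.add_apply, hf, hg, add_zero]
    | monomial k c =>
      rw [← Polynomial.C_mul_X_pow_eq_monomial, Polynomial.toLaurent_C_mul_X_pow,
        ← LaurentPolynomial.single_eq_C_mul_T, AddMonoidAlgebra.coeff_single, Finsupp.single_eq_of_ne]
      omega
  have hv : v * algebraMap A 𝓕.rees a = y := toExt_injective 𝓕 (by rw [map_mul, hcomm]; exact hw)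
  refine (Ideal.IsPrime.ne_top (I := Q) inferInstance) ((Ideal.eq_top_iff_one _).2 ?_)
  rw [hy, Submodule.mem_colon_singleton, Submodule.mem_bot, one_smul, Ideal.Quotient.eq_zero_iff_mem, ← hv]
  exact Ideal.mul_mem_left _ _ (Ideal.mem_span_singleton_self _)

/-- `(S₂)` descends from the extended Rees algebra to the Rees algebra. -/
theorem hasSk_two_rees [IsNoetherianRing A] (hfg : Algebra.FiniteType A 𝓕.rees) (hht : 2 ≤ (𝓕.F 1).height)
    (h : LocCoh.HasSk 2 𝓕.extRees 𝓕.extRees) : LocCoh.HasSk 2 𝓕.rees 𝓕.rees := by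
  haveI : IsNoetherianRing 𝓕.rees := Algebra.FiniteType.isNoetherianRing A 𝓕.rees
  haveI := isNoetherianRing_extRees 𝓕 hfg
  have hA : LocCoh.HasSk 1 A A := hasSk_one_of_two ((s2_iff_gr 𝓕 hfg).1 h).2
  have hall := (FlatDepth.hasSk_iff_condS 2 𝓕.extRees).1 h
  rw [FlatDepth.hasSk_iff_condS]
  intro P _
  by_cases hplus : ∀ (n : ℕ) (b : A) (hb : b ∈ 𝓕.F n), 0 < n → mono 𝓕 n b hb ∈ P
  · by_cases h1 : ∀ c ∈ 𝓕.F 1, algebraMap A 𝓕.rees c ∈ P
    · obtain ⟨a, ha, hreg⟩ := exists_regular_mem hA ((show (1 : ℕ∞) ≤ 2 by norm_num).trans hht)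
      exact condS_two_of_F_one_le 𝓕 h hht P hplus h1 ha hreg
    · push Not at h1
      obtain ⟨a, ha, hap⟩ := h1
      exact condS_two_of_notMem_F_one 𝓕 hA P hplus ha hap
  · push Not at hplus
    obtain ⟨n, b, hb, hn, hP⟩ := hplus
    obtain ⟨Q, _, ⟨e⟩⟩ := exists_localization_equiv 𝓕 n b hb hn P hP
    haveI : IsNoetherianRing (Localization.AtPrime P) :=
      IsLocalization.isNoetherianRing P.primeCompl _ inferInstance
    haveI : IsNoetherianRing (Localization.AtPrime Q) :=
      IsLocalization.isNoetherianRing Q.primeCompl _ inferInstance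
    exact (hall Q).of_ringEquiv e

end Groth.Agent.FiltRees
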