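import Groth.Agent.FiltRees.Basic
import Groth.Agent.S2119
import Mathlib.RingTheory.UniqueFactorizationDomain.Basic
import Mathlib.RingTheory.Polynomial.UniqueFactorization

/-!
# Factoriality of extended Rees algebras
-/

noncomputable section

set_option backward.isDefEq.respectTransparency false
set_option backward.isDefEq.respectTransparency.types false
set_option linter.style.haveILetI false

universe u

open scoped LaurentPolynomial

namespace Groth.Agent.FiltRees

/-- Nagata's criterion for a single prime element. -/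
theorem ufd_of_away {R : Type u} [CommRing R] [IsDomain R] [IsNoetherianRing R] {x : R} (hx : Prime x)
    (L : Type u) [CommRing L] [Algebra R L] [IsLocalization.Away x L] [UniqueFactorizationMonoid L] :
    UniqueFactorizationMonoid R := by
  have hS : Submonoid.closure {x} = Submonoid.powers x := (Submonoid.powers_eq_closure x).symm
  have hle : Submonoid.closure {x} ≤ nonZeroDivisors R := hS ▸ powers_le_nonZeroDivisors_of_noZeroDivisors hx.ne_zero
  haveI : IsDomain (Localization (Submonoid.closure {x})) := IsLocalization.isDomain_localization hle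
  haveI : IsLocalization (Submonoid.closure {x}) L := hS ▸ ‹IsLocalization.Away x L›
  let e : L ≃+* Localization (Submonoid.closure {x}) :=
    (IsLocalization.algEquiv (Submonoid.closure {x}) L (Localization (Submonoid.closure {x}))).toRingEquiv
  exact S2119.result (fun a ha _ => WfDvdMonoid.exists_factors a ha) {x} (by rintro p rfl; exact hx)
    (e.toMulEquiv.uniqueFactorizationMonoid ‹_›)

variable {A : Type u} [CommRing A] [IsDomain A]

theorem ufd_laurent_iff [IsNoetherianRing A] :
    UniqueFactorizationMonoid A[T;T⁻¹] ↔ UniqueFactorizationMonoid A := by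
  constructor
  · intro h
    haveI : UniqueFactorizationMonoid (Polynomial A) := ufd_of_away Polynomial.prime_X A[T;T⁻¹]
    refine UniqueFactorizationMonoid.of_exists_prime_factors fun a ha => ?_
    obtain ⟨f, hf, hfa⟩ := WfDvdMonoid.exists_factors a ha
    refine ⟨f, fun b hb => Polynomial.prime_C_iff.1 (UniqueFactorizationMonoid.irreducible_iff_prime.1
      ⟨fun hu => (hf b hb).not_isUnit (Polynomial.isUnit_C.1 hu), fun p q hpq => ?_⟩), hfa⟩
    have hpq0 : p * q ≠ 0 := hpq ▸ Polynomial.C_ne_zero.2 (hf b hb).ne_zero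
    have hd := congrArg Polynomial.natDegree hpq
    rw [Polynomial.natDegree_C, Polynomial.natDegree_mul (left_ne_zero_of_mul hpq0) (right_ne_zero_of_mul hpq0)] at hd
    obtain ⟨p0, rfl⟩ := Polynomial.natDegree_eq_zero.1 (show p.natDegree = 0 by omega)
    obtain ⟨q0, rfl⟩ := Polynomial.natDegree_eq_zero.1 (show q.natDegree = 0 by omega)
    rw [← map_mul] at hpq
    simp only [Polynomial.isUnit_C]
    exact (hf b hb).isUnit_or_isUnit (Polynomial.C_injective hpq)
  · intro h
    exact UniqueFactorizationMonoid.of_isLocalization (Submonoid.powers (Polynomial.X : Polynomial A)) A[T;T⁻¹]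

/-- The divisors of a power of the variable are monomials with unit coefficient. -/
theorem exists_monomial_of_mul_eq {x y : A[T;T⁻¹]} {N : ℤ} (h : x * y = LaurentPolynomial.T N) :
    ∃ (c : A) (k : ℤ), IsUnit c ∧ x = AddMonoidAlgebra.single k c := by
  obtain ⟨n, p, hp⟩ := LaurentPolynomial.exists_T_pow x
  obtain ⟨m, q, hq⟩ := LaurentPolynomial.exists_T_pow y
  set j := (-(N + n + m)).toNat with hj
  obtain ⟨K, hK⟩ : ∃ K : ℕ, (K : ℤ) = N + n + m + j := ⟨_, Int.toNat_of_nonneg (by omega)⟩
  have hpq : p * (q * Polynomial.X ^ j) = Polynomial.X ^ K := by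
    apply Polynomial.toLaurent_injective
    rw [map_mul, map_mul, Polynomial.toLaurent_X_pow, Polynomial.toLaurent_X_pow, hp, hq, hK,
      show x * LaurentPolynomial.T (n : ℤ) * (y * LaurentPolynomial.T (m : ℤ) * LaurentPolynomial.T (j : ℤ)) =
        (x * y) * (LaurentPolynomial.T (n : ℤ) * LaurentPolynomial.T (m : ℤ) * LaurentPolynomial.T (j : ℤ)) by ring,
      h, ← LaurentPolynomial.T_add, ← LaurentPolynomial.T_add, ← LaurentPolynomial.T_add]
    congr 1
    ring
  obtain ⟨i, -, hi⟩ := (dvd_prime_pow Polynomial.prime_X _).1 ⟨_, hpq.symm⟩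
  obtain ⟨v, hv⟩ := hi.symm
  obtain ⟨c, hc, hcv⟩ := Polynomial.isUnit_iff.1 v.isUnit
  refine ⟨c, (i : ℤ) - n, hc, ?_⟩
  rw [← hv, ← hcv, map_mul, Polynomial.toLaurent_X_pow, Polynomial.toLaurent_C] at hp
  have := congrArg (· * LaurentPolynomial.T (-(n : ℤ))) hp
  simp only [mul_assoc, ← LaurentPolynomial.T_add, add_neg_cancel, LaurentPolynomial.T_zero, mul_one] at this
  rw [← this, LaurentPolynomial.single_eq_C_mul_T, sub_eq_add_neg, LaurentPolynomial.T_add]
  ring

variable (𝓕 : FiltBl.IdealFiltration A)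

theorem single_isUnit {c : A} (hc : IsUnit c) :
    IsUnit (⟨AddMonoidAlgebra.single 0 c, single_mem 𝓕 (mem_F_zero 𝓕 le_rfl c)⟩ : 𝓕.extRees) := by
  obtain ⟨d, hd⟩ := hc.exists_right_inv
  refine IsUnit.of_mul_eq_one ⟨AddMonoidAlgebra.single 0 d, single_mem 𝓕 (mem_F_zero 𝓕 le_rfl d)⟩ (Subtype.ext ?_)
  rw [MulMemClass.coe_mul, AddMonoidAlgebra.single_mul_single, hd, add_zero]
  rfl

/-- `u` is prime when the extended Rees algebra is factorial. -/
theorem prime_u [IsDomain 𝓕.extRees] [UniqueFactorizationMonoid 𝓕.extRees] (h1 : 𝓕.F 1 ≠ ⊤) : Prime 𝓕.u := by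
  refine UniqueFactorizationMonoid.irreducible_iff_prime.1 ⟨fun hu => h1 ?_, fun x y hxy => ?_⟩
  · obtain ⟨w, hw⟩ := hu.exists_right_inv
    have := coeff_zero_of_mem_span_u 𝓕 (z := 1) (Ideal.mem_span_singleton'.2 ⟨w, by rw [mul_comm, hw]⟩)
    rw [OneMemClass.coe_one, ← LaurentPolynomial.T_zero, LaurentPolynomial.T_apply, if_pos rfl] at this
    exact (Ideal.eq_top_iff_one _).2 this
  · have hxy' : (x : A[T;T⁻¹]) * (y : A[T;T⁻¹]) = LaurentPolynomial.T (-1) := by
      rw [← MulMemClass.coe_mul, ← hxy, coe_u]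
    obtain ⟨c, k, hc, hx⟩ := exists_monomial_of_mul_eq hxy'
    obtain ⟨d, l, hd, hy⟩ := exists_monomial_of_mul_eq (x := (y : A[T;T⁻¹])) (y := x) (by rw [mul_comm]; exact hxy')
    have hle : ∀ (z : 𝓕.extRees) (e : A) (j : ℤ), IsUnit e → (z : A[T;T⁻¹]) = AddMonoidAlgebra.single j e → j ≤ 0 := by
      intro z e j he hz
      by_contra hj
      have := z.2 j
      rw [hz, AddMonoidAlgebra.coeff_single, Finsupp.single_eq_same] at this
      exact h1 (Ideal.eq_top_of_isUnit_mem _ (𝓕.antitone (by omega : 1 ≤ j.toNat) this) he)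
    have hkl : k + l = -1 := by
      rw [hx, hy, AddMonoidAlgebra.single_mul_single, LaurentPolynomial.T] at hxy'
      by_contra hne
      have := congrArg (fun w : A[T;T⁻¹] => w.coeff (k + l)) hxy'
      simp only [AddMonoidAlgebra.coeff_single, Finsupp.single_eq_same, Finsupp.single_eq_of_ne hne] at this
      exact (hc.mul hd).ne_zero this
    have h1' := hle x c k hc hx
    have h2' := hle y d l hd hy
    rcases (show k = 0 ∨ l = 0 by omega) with rfl | rfl
    · refine Or.inl ?_
      rw [show x = ⟨AddMonoidAlgebra.single 0 c, single_mem 𝓕 (mem_F_zero 𝓕 le_rfl c)⟩ from Subtype.ext hx]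
      exact single_isUnit 𝓕 hc
    · refine Or.inr ?_
      rw [show y = ⟨AddMonoidAlgebra.single 0 d, single_mem 𝓕 (mem_F_zero 𝓕 le_rfl d)⟩ from Subtype.ext hy]
      exact single_isUnit 𝓕 hd

/-- Factoriality of the extended Rees algebra. -/
theorem ufd_iff [IsNoetherianRing A] (hfg : Algebra.FiniteType A 𝓕.rees) (hsep : ⨅ n, 𝓕.F n = ⊥)
    [IsDomain 𝓕.extRees] :
    UniqueFactorizationMonoid 𝓕.extRees ↔ (UniqueFactorizationMonoid A ∧ IsDomain 𝓕.Gr) := by
  haveI := isNoetherianRing_extRees 𝓕 hfg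
  haveI := isLocalization 𝓕
  have hne : 𝓕.u ≠ 0 := fun h => by
    have := congrArg (fun w : 𝓕.extRees => (w : A[T;T⁻¹])) h
    simp only [coe_u, ZeroMemClass.coe_zero] at this
    exact (LaurentPolynomial.isUnit_T (-1)).ne_zero this
  constructor
  · intro h
    refine ⟨ufd_laurent_iff.1 (UniqueFactorizationMonoid.of_isLocalization (Submonoid.powers 𝓕.u) A[T;T⁻¹]), ?_⟩
    haveI := (Ideal.span_singleton_prime hne).2 (prime_u 𝓕 (F_one_ne_top 𝓕 hsep))
    exact Ideal.Quotient.isDomain _
  · rintro ⟨hA, hG⟩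
    have hp : Prime 𝓕.u := (Ideal.span_singleton_prime hne).1 ((Ideal.Quotient.isDomain_iff_prime _).1 hG)
    haveI := (ufd_laurent_iff (A := A)).2 hA
    exact ufd_of_away hp A[T;T⁻¹]

end Groth.Agent.FiltRees
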